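import Mathlib
import Cfsg.Agent.H577.GLB.StdCount
import Cfsg.Agent.H615.AltCount
import Cfsg.Agent.H38.S4536.Tuples
set_option linter.all false

-- part: H140/S4536N2
section
/-!
# S4536, the number estimate N2 (helper140)
-/

set_option autoImplicit false

open Finset

namespace Cfsg.Agent.H140.S4536

theorem pow_bernoulli (e : ℕ) : ∀ j : ℕ, e ^ (j + 1) + (j + 1) * e ^ j ≤ (e + 1) ^ (j + 1)
  | 0 => by simp
  | j + 1 => by
    have h := Nat.mul_le_mul_right (e + 1) (pow_bernoulli e j)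
    have h2 : (e ^ (j + 1) + (j + 1) * e ^ j) * (e + 1) =
        e ^ (j + 2) + (j + 2) * e ^ (j + 1) + (j + 1) * e ^ j := by ring
    rw [h2, ← pow_succ] at h
    exact (Nat.le_add_right _ _).trans h

theorem N2 (p e e₀ w k K : ℕ) (hp : p.Prime) (he : e ∣ p - 1) (he₀ : e₀ ∣ e) (he₀' : 0 < e₀) (hw : 1 ≤ w)
    (hk : 1 ≤ k) (hK : K ≤ e₀ * (e₀ + 1) ^ (w - 1)) :
    (e / e₀) * ∑ c ∈ range k, K ^ Nat.gcd c k ≤ p ^ (k * w) := by
  obtain ⟨j, rfl⟩ : ∃ j, k = j + 1 := ⟨k - 1, by omega⟩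
  obtain ⟨v, rfl⟩ : ∃ v, w = v + 1 := ⟨w - 1, by omega⟩
  obtain ⟨d, rfl⟩ := he₀
  have hp2 := hp.two_le
  have hpe : e₀ * d + 1 ≤ p := by
    have := Nat.le_of_dvd (by omega) he
    omega
  have hd : 1 ≤ d := by
    rcases Nat.eq_zero_or_pos d with h | h
    · subst h
      rw [mul_zero, zero_dvd_iff] at he
      omega
    · exact h
  rw [Nat.mul_div_cancel_left _ he₀']
  have h1 : ∑ c ∈ range (j + 1), K ^ Nat.gcd c (j + 1) ≤ j * K ^ j + K ^ (j + 1) := by
    rw [Finset.sum_range_succ', Nat.gcd_zero_left]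
    refine Nat.add_le_add_right ?_ _
    refine (Finset.sum_le_card_nsmul _ _ (K ^ j) fun c hc => ?_).trans ?_
    · rw [Finset.mem_range] at hc
      have h2 : Nat.gcd (c + 1) (j + 1) ≤ j := (Nat.gcd_le_left _ (by omega)).trans (by omega)
      have h3 : 0 < Nat.gcd (c + 1) (j + 1) := Nat.gcd_pos_of_pos_left _ (by omega)
      rcases Nat.eq_zero_or_pos K with hK0 | hK0
      · rw [hK0, zero_pow h3.ne']
        exact Nat.zero_le _
      · exact Nat.pow_le_pow_right hK0 h2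
    · rw [Finset.card_range, smul_eq_mul]
  rw [Nat.add_sub_cancel] at hK
  set A := p ^ v with hA
  have hA1 : 1 ≤ A := Nat.one_le_pow _ _ (by omega)
  have hKA : K ≤ e₀ * A := hK.trans (Nat.mul_le_mul_left _ (Nat.pow_le_pow_left (by nlinarith) v))
  have h2 : d * K ^ (j + 1) ≤ (e₀ * d) ^ (j + 1) * A ^ (j + 1) := by
    calc d * K ^ (j + 1) ≤ d * (e₀ * A) ^ (j + 1) := Nat.mul_le_mul_left _ (Nat.pow_le_pow_left hKA _)
      _ ≤ d ^ (j + 1) * (e₀ * A) ^ (j + 1) := Nat.mul_le_mul_right _ (Nat.le_self_pow (by omega) d)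
      _ = (e₀ * d) ^ (j + 1) * A ^ (j + 1) := by ring
  have h3 : d * (j * K ^ j) ≤ (j + 1) * (e₀ * d) ^ j * A ^ (j + 1) := by
    rcases Nat.eq_zero_or_pos j with hj | hj
    · subst hj
      rw [zero_mul, mul_zero]; exact Nat.zero_le _
    calc d * (j * K ^ j) ≤ d ^ j * ((j + 1) * (e₀ * A) ^ j) :=
          Nat.mul_le_mul (Nat.le_self_pow (by omega) d)
            (Nat.mul_le_mul (by omega) (Nat.pow_le_pow_left hKA _))
      _ = (j + 1) * (e₀ * d) ^ j * A ^ j := by ring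
      _ ≤ (j + 1) * (e₀ * d) ^ j * A ^ (j + 1) := Nat.mul_le_mul_left _ (Nat.pow_le_pow_right hA1 (by omega))
  have h4 : ((e₀ * d) ^ (j + 1) + (j + 1) * (e₀ * d) ^ j) * A ^ (j + 1) ≤ p ^ (j + 1) * A ^ (j + 1) :=
    Nat.mul_le_mul_right _ ((pow_bernoulli (e₀ * d) j).trans (Nat.pow_le_pow_left hpe _))
  have h5 : p ^ ((j + 1) * (v + 1)) = p ^ (j + 1) * A ^ (j + 1) := by
    rw [hA, ← pow_mul, ← pow_add]; congr 1; ring
  rw [h5]
  refine (Nat.mul_le_mul_left d h1).trans ?_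
  rw [mul_add]
  nlinarith [h2, h3, h4]

end Cfsg.Agent.H140.S4536
end

-- part: H610/GLB/Abs
section
/-!
# Sums over cyclic groups for the counting part of S4536 / S4537 (helper610)

* `sum_index` : `∑_{a ∈ A} K ^ |A : B + ⟨a⟩| = |B| ∑_{c < k} K ^ gcd(c, k)`, `k = |A : B|`, `A` cyclic;
* `prod_bound` : the sum of a product of functions, each one constant on the cosets of a subgroup;
* `card_le_of_fibre` : `|B| ≤ g |S|`.
-/

set_option autoImplicit false

namespace Cfsg.Agent.H610.GLB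

open Finset

set_option linter.unusedSectionVars false

section Quot

variable {A : Type*} [AddCommGroup A] [Finite A] [Fintype A]

open Classical in
theorem card_fibre (B : AddSubgroup A) (u : A ⧸ B) :
    (Finset.univ.filter fun a : A => (a : A ⧸ B) = u).card = Nat.card B := by
  obtain ⟨a0, rfl⟩ := QuotientAddGroup.mk_surjective u
  rw [← Fintype.card_subtype, ← Nat.card_eq_fintype_card]
  refine Nat.card_congr ⟨fun a => ⟨-a0 + a.1, ?_⟩, fun s => ⟨a0 + s.1, ?_⟩, fun a => ?_, fun s => ?_⟩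
  · have h := a.2
    exact QuotientAddGroup.eq.1 h.symm
  · rw [QuotientAddGroup.eq, neg_add_rev, add_assoc, neg_add_cancel, add_zero]
    exact B.neg_mem s.2
  · exact Subtype.ext (by simp)
  · exact Subtype.ext (by simp)

theorem sum_quot (B : AddSubgroup A) [Fintype (A ⧸ B)] (f : A ⧸ B → ℕ) :
    ∑ a : A, f (a : A ⧸ B) = Nat.card B * ∑ u : A ⧸ B, f u := by
  classical
  rw [← Finset.sum_fiberwise (s := (Finset.univ : Finset A)) (g := fun a : A => (a : A ⧸ B)), Finset.mul_sum]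
  refine Finset.sum_congr rfl fun u _ => ?_
  rw [Finset.sum_congr rfl (g := fun _ => f u) (fun a ha => by rw [(Finset.mem_filter.1 ha).2]), Finset.sum_const,
    card_fibre, smul_eq_mul]

end Quot

/-- the sum over a cyclic group -/
theorem sum_cyclic {C : Type*} [AddCommGroup C] [Finite C] [Fintype C] [IsAddCyclic C] (K : ℕ) :
    ∑ u : C, K ^ (AddSubgroup.zmultiples u).index = ∑ c ∈ range (Nat.card C), K ^ Nat.gcd c (Nat.card C) := by
  classical
  obtain ⟨g, hg⟩ := IsAddCyclic.exists_generator (α := C)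
  have hk : addOrderOf g = Nat.card C := addOrderOf_eq_card_of_forall_mem_zmultiples hg
  have hpos : 0 < Nat.card C := Nat.card_pos
  symm
  refine Finset.sum_bij (fun c _ => c • g) (fun _ _ => Finset.mem_univ _) ?_ ?_ ?_
  · intro c hc c' hc' h
    rw [Finset.mem_range, ← hk] at hc hc'
    exact nsmul_injOn_Iio_addOrderOf (by simpa using hc) (by simpa using hc') h
  · intro u _
    obtain ⟨z, hz⟩ := hg u
    have h1 : u ∈ AddSubmonoid.multiples g := by
      rw [mem_multiples_iff_mem_zmultiples]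
      exact hg u
    obtain ⟨j, hj⟩ := h1
    refine ⟨j % Nat.card C, Finset.mem_range.2 (Nat.mod_lt _ hpos), ?_⟩
    have hj' : j • g = u := hj
    rw [← hk, mod_addOrderOf_nsmul, hj']
  · intro c _
    have h1 : (AddSubgroup.zmultiples (c • g)).index * addOrderOf (c • g) = Nat.card C := by
      rw [← Nat.card_zmultiples]
      exact AddSubgroup.index_mul_card _
    have h2 : addOrderOf (c • g) = Nat.card C / Nat.gcd (Nat.card C) c := by
      rw [addOrderOf_nsmul, hk]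
    have h3 : Nat.gcd (Nat.card C) c * (Nat.card C / Nat.gcd (Nat.card C) c) = Nat.card C :=
      Nat.mul_div_cancel' (Nat.gcd_dvd_left _ _)
    have h4 : 0 < Nat.card C / Nat.gcd (Nat.card C) c := by
      rw [← h2]
      exact addOrderOf_pos _
    rw [h2] at h1
    have h5 := Nat.eq_of_mul_eq_mul_right h4 (h1.trans h3.symm)
    rw [h5, Nat.gcd_comm]

/-- the sum over a cyclic group, relative to a subgroup -/
theorem sum_index {A : Type*} [AddCommGroup A] [Finite A] [Fintype A] [IsAddCyclic A] (B : AddSubgroup A) (K : ℕ) :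
    ∑ a : A, K ^ (B ⊔ AddSubgroup.zmultiples a).index = Nat.card B * ∑ c ∈ range B.index, K ^ Nat.gcd c B.index := by
  classical
  have := Fintype.ofFinite (A ⧸ B)
  have hcyc : IsAddCyclic (A ⧸ B) := isAddCyclic_of_surjective (QuotientAddGroup.mk' B) (QuotientAddGroup.mk'_surjective B)
  have h1 : ∀ a : A, (B ⊔ AddSubgroup.zmultiples a).index = (AddSubgroup.zmultiples (a : A ⧸ B)).index := by
    intro a
    rw [← AddSubgroup.index_comap_of_surjective (AddSubgroup.zmultiples (a : A ⧸ B)) (QuotientAddGroup.mk'_surjective B)]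
    congr 1
    have h2 : AddSubgroup.zmultiples (a : A ⧸ B) = (AddSubgroup.zmultiples a).map (QuotientAddGroup.mk' B) := by
      rw [AddMonoidHom.map_zmultiples]
      rfl
    rw [h2, AddSubgroup.comap_map_eq, QuotientAddGroup.ker_mk', sup_comm]
  rw [Finset.sum_congr rfl fun a _ => by rw [h1 a], sum_quot B (fun u => K ^ (AddSubgroup.zmultiples u).index), sum_cyclic]
  rfl

/-- **The sum of a product of functions which are constant on the cosets of subgroups.** -/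
theorem prod_bound {A : Type*} [AddCommGroup A] [Finite A] [Fintype A] {Ω : Type*} [Fintype Ω] (S : Ω → AddSubgroup A)
    (h : Ω → A → ℕ) (hinv : ∀ o a s, s ∈ S o → h o (a + s) = h o a) (P : Ω → ℕ)
    (hP : ∀ o, ∑ a, h o a ≤ Nat.card (S o) * P o) :
    ∑ a, ∏ o, h o a ≤ Nat.card (⨅ o, S o : AddSubgroup A) * ∏ o, P o := by
  classical
  have hf : ∀ o, Fintype (A ⧸ S o) := fun o => Fintype.ofFinite _
  have hlift : ∀ o, ∃ f : A ⧸ S o → ℕ, ∀ a : A, f (a : A ⧸ S o) = h o a := by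
    intro o
    refine ⟨fun u => Quotient.liftOn' u (h o) ?_, fun a => rfl⟩
    intro a b hab
    rw [QuotientAddGroup.leftRel_apply] at hab
    have := hinv o a _ hab
    rw [← this]
    congr 1
    abel
  choose f hf' using hlift
  have hsum : ∀ o, ∑ u, f o u ≤ P o := by
    intro o
    have h1 := hP o
    rw [Finset.sum_congr rfl (fun a _ => (hf' o a).symm), sum_quot (S o) (f o)] at h1
    exact Nat.le_of_mul_le_mul_left h1 Nat.card_pos
  let Φ : A → ∀ o, A ⧸ S o := fun a o => (a : A ⧸ S o)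
  have hfib : ∀ v : ∀ o, A ⧸ S o, (Finset.univ.filter fun a : A => Φ a = v).card ≤ Nat.card (⨅ o, S o : AddSubgroup A) := by
    intro v
    rcases (Finset.univ.filter fun a : A => Φ a = v).eq_empty_or_nonempty with h0 | ⟨a0, ha0⟩
    · rw [h0, Finset.card_empty]
      exact Nat.zero_le _
    · have h1 := (Finset.mem_filter.1 ha0).2
      rw [Nat.card_eq_fintype_card, ← Finset.card_univ]
      refine Finset.card_le_card_of_injOn (fun a => if ha : -a0 + a ∈ (⨅ o, S o : AddSubgroup A) then ⟨-a0 + a, ha⟩ else 0)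
        (fun _ _ => Finset.mem_coe.2 (Finset.mem_univ _)) ?_
      have key : ∀ a ∈ (Finset.univ.filter fun a : A => Φ a = v), -a0 + a ∈ (⨅ o, S o : AddSubgroup A) := by
        intro a ha
        rw [AddSubgroup.mem_iInf]
        intro o
        have h2 := (Finset.mem_filter.1 ha).2
        rw [← QuotientAddGroup.eq]
        exact congrFun (h1.trans h2.symm) o
      intro a ha b hb hab
      simp only at hab
      rw [dif_pos (key a (Finset.mem_coe.1 ha)), dif_pos (key b (Finset.mem_coe.1 hb))] at hab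
      exact add_left_cancel (congrArg Subtype.val hab)
  have h1 : ∀ a : A, ∏ o, h o a = ∏ o, f o (Φ a o) := fun a => Finset.prod_congr rfl fun o _ => (hf' o a).symm
  rw [Finset.sum_congr rfl fun a _ => h1 a, ← Finset.sum_fiberwise (s := (Finset.univ : Finset A)) (g := Φ)]
  calc ∑ v, ∑ a ∈ Finset.univ.filter (fun a : A => Φ a = v), ∏ o, f o (Φ a o)
      = ∑ v, (Finset.univ.filter fun a : A => Φ a = v).card * ∏ o, f o (v o) := by
        refine Finset.sum_congr rfl fun v _ => ?_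
        rw [Finset.sum_congr rfl (g := fun _ => ∏ o, f o (v o)) (fun a ha => by rw [(Finset.mem_filter.1 ha).2]),
          Finset.sum_const, smul_eq_mul]
    _ ≤ ∑ v : (∀ o, A ⧸ S o), Nat.card (⨅ o, S o : AddSubgroup A) * ∏ o, f o (v o) :=
        Finset.sum_le_sum fun v _ => Nat.mul_le_mul_right _ (hfib v)
    _ = Nat.card (⨅ o, S o : AddSubgroup A) * ∏ o, ∑ u, f o u := by
        rw [← Finset.mul_sum, Finset.prod_univ_sum]
        simp
    _ ≤ _ := Nat.mul_le_mul_left _ (Finset.prod_le_prod' fun o _ => hsum o)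

/-- `|B| ≤ g |S|` if the elements of `B` with the same value of `f < g` are congruent modulo `S` -/
theorem card_le_of_fibre {A : Type*} [AddCommGroup A] [Finite A] (B S : AddSubgroup A) (g : ℕ) (f : B → ℕ)
    (hf : ∀ b, f b < g) (h : ∀ b b' : B, f b = f b' → (b : A) - b' ∈ S) : Nat.card B ≤ g * Nat.card S := by
  classical
  have := Fintype.ofFinite B
  have := Fintype.ofFinite S
  rw [Nat.card_eq_fintype_card, Nat.card_eq_fintype_card, ← Finset.card_univ, ← Finset.card_range g]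
  rw [mul_comm]
  refine Finset.card_le_mul_card_image_of_maps_to (f := f) (fun b _ => Finset.mem_range.2 (hf b)) _ ?_
  intro i _
  rcases (Finset.univ.filter fun b : B => f b = i).eq_empty_or_nonempty with h0 | ⟨b0, hb0⟩
  · rw [h0, Finset.card_empty]
    exact Nat.zero_le _
  · rw [← Finset.card_univ]
    refine Finset.card_le_card_of_injOn (fun b => if hb : (b : A) - b0 ∈ S then ⟨(b : A) - b0, hb⟩ else 0)
      (fun _ _ => Finset.mem_coe.2 (Finset.mem_univ _)) ?_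
    have key : ∀ b ∈ (Finset.univ.filter fun b : B => f b = i), (b : A) - b0 ∈ S := fun b hb =>
      h b b0 ((Finset.mem_filter.1 hb).2.trans (Finset.mem_filter.1 hb0).2.symm)
    intro b hb c hc hbc
    simp only at hbc
    rw [dif_pos (key b (Finset.mem_coe.1 hb)), dif_pos (key c (Finset.mem_coe.1 hc))] at hbc
    exact Subtype.ext (sub_left_injective (congrArg Subtype.val hbc))

end Cfsg.Agent.H610.GLB
end

-- part: H610/GLB/Prod
section
/-!
# S4536 / S4537: the product form of the sum of the numbers of fixed labels (helper610)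

For a family of labels `t0` (`p'`-labels only) with stabiliser `A = Stab t0` (an additive subgroup of `ZMod M`) let `Ω` be the
set of classes of the `p'`-labels of positive weight modulo the multiplication by `Q` and the translations by `A`. For
`o ∈ Ω` let `B o` be the set of all `a ∈ A` with `o + a ∈ ⟨Q⟩ o` and `S o` the set of all `a` with `o + a ∈ ⟨Q ^ e⟩ o`. Then
`nfix t0 a ≤ ∏ o, (#K o) ^ |A : B o + ⟨a⟩|`, `|B o| ≤ gcd(e, d o) |S o|`.
-/

set_option autoImplicit false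
set_option linter.unusedSectionVars false

namespace Cfsg.Agent.H610.GLB

open Cfsg.Agent.H577.GLB.Std Cfsg.Agent.H614

variable {Q : ℤ} {M : ℕ} [NeZero M] {p : ℕ} {m n : ℕ}

/-! ### Labels -/

theorem iterate_mul (R : ZMod M) (j : ℕ) (c : ZMod M) : (fun x : ZMod M => R * x)^[j] c = R ^ j * c := by
  induction j generalizing c with
  | zero => simp
  | succ j ih => rw [Function.iterate_succ_apply, ih, pow_succ, mul_assoc]

theorem exists_pow_eq_one {R : ZMod M} (hR : IsUnit R) : ∃ N : ℕ, 0 < N ∧ R ^ N = 1 :=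
  ⟨orderOf R, hR.isOfFinOrder.orderOf_pos, pow_orderOf_eq_one R⟩

theorem perZ_pos (hQ : IsUnit (Q : ZMod M)) (c : ZMod M) : 0 < perZ Q M c := by
  obtain ⟨N, hN, h⟩ := exists_pow_eq_one hQ
  apply Function.minimalPeriod_pos_of_mem_periodicPts
  exact ⟨N, hN, by
    show (fun x : ZMod M => (Q : ZMod M) * x)^[N] c = c
    rw [iterate_mul, h, one_mul]⟩

theorem pow_perZ (c : ZMod M) : (Q : ZMod M) ^ perZ Q M c * c = c := by
  have h := Function.iterate_minimalPeriod (f := fun x : ZMod M => (Q : ZMod M) * x) (x := c)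
  rwa [iterate_mul] at h

theorem pow_mod_perZ (c : ZMod M) (j : ℕ) : (Q : ZMod M) ^ (j % perZ Q M c) * c = (Q : ZMod M) ^ j * c := by
  have h := Function.iterate_mod_minimalPeriod_eq (f := fun x : ZMod M => (Q : ZMod M) * x) (x := c) (n := j)
  rwa [iterate_mul, iterate_mul] at h

theorem perZ_congr {c c' : ZMod M} (h : ∀ j, (Q : ZMod M) ^ j * c = c ↔ (Q : ZMod M) ^ j * c' = c') :
    perZ Q M c = perZ Q M c' := by
  unfold perZ
  rw [Function.minimalPeriod_eq_minimalPeriod_iff]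
  intro j
  show (fun x : ZMod M => (Q : ZMod M) * x)^[j] c = c ↔ (fun x : ZMod M => (Q : ZMod M) * x)^[j] c' = c'
  rw [iterate_mul, iterate_mul]
  exact h j

theorem perZ_mul (hQ : IsUnit (Q : ZMod M)) (i : ℕ) (c : ZMod M) : perZ Q M ((Q : ZMod M) ^ i * c) = perZ Q M c := by
  apply perZ_congr
  intro j
  rw [show (Q : ZMod M) ^ j * ((Q : ZMod M) ^ i * c) = (Q : ZMod M) ^ i * ((Q : ZMod M) ^ j * c) by ring]
  exact (hQ.pow i).mul_right_inj

theorem torZ_one {a : ZMod M} : TorZ Q M 1 a ↔ (Q : ZMod M) * a = a := by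
  unfold TorZ
  rw [pow_one, sub_mul, one_mul, sub_eq_zero]

theorem pow_fix {R a : ZMod M} (h : R * a = a) (j : ℕ) : R ^ j * a = a := by
  induction j with
  | zero => simp
  | succ j ih => rw [pow_succ, mul_assoc, h, ih]

theorem perZ_add {a : ZMod M} (ha : (Q : ZMod M) * a = a) (c : ZMod M) : perZ Q M (c + a) = perZ Q M c := by
  apply perZ_congr
  intro j
  rw [mul_add, pow_fix ha, add_left_inj]

theorem orb_pow {t : ZMod M → Fin m → ℕ} (h : ∀ c, t ((Q : ZMod M) * c) = t c) (j : ℕ) (c : ZMod M) :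
    t ((Q : ZMod M) ^ j * c) = t c := by
  induction j with
  | zero => simp
  | succ j ih => rw [pow_succ', mul_assoc, h, ih]

theorem canon_spec (c : ZMod M) : ∃ j : ℕ, canon Q M c = (Q : ZMod M) ^ j * c := by
  have hne : {n : ℕ | ∃ j : ℕ, n = ((Q : ZMod M) ^ j * c).val}.Nonempty := ⟨_, 0, rfl⟩
  obtain ⟨j, hj⟩ := Nat.sInf_mem hne
  refine ⟨j, ?_⟩
  unfold canon
  rw [hj, ZMod.natCast_zmod_val]

theorem inv_pow (hQ : IsUnit (Q : ZMod M)) (j : ℕ) : ∃ i : ℕ, (Q : ZMod M) ^ i * (Q : ZMod M) ^ j = 1 := by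
  obtain ⟨N, hN, h⟩ := exists_pow_eq_one hQ
  refine ⟨N * j - j, ?_⟩
  rw [← pow_add, Nat.sub_add_cancel (Nat.le_mul_of_pos_left _ hN), pow_mul, h, one_pow]

theorem canon_congr (hQ : IsUnit (Q : ZMod M)) (i : ℕ) (c : ZMod M) : canon Q M ((Q : ZMod M) ^ i * c) = canon Q M c := by
  unfold canon
  congr 2
  ext x
  constructor
  · rintro ⟨j, rfl⟩
    exact ⟨j + i, by rw [pow_add, mul_assoc]⟩
  · rintro ⟨j, rfl⟩
    obtain ⟨k, hk⟩ := inv_pow hQ i
    refine ⟨j + k, ?_⟩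
    rw [pow_add, mul_assoc, ← mul_assoc (_ ^ k), hk, one_mul]

theorem canon_canon (hQ : IsUnit (Q : ZMod M)) (c : ZMod M) : canon Q M (canon Q M c) = canon Q M c := by
  obtain ⟨j, hj⟩ := canon_spec (Q := Q) c
  conv_lhs => rw [hj]
  exact canon_congr hQ j c

theorem exists_of_canon_eq (hQ : IsUnit (Q : ZMod M)) {c c' : ZMod M} (h : canon Q M c = canon Q M c') :
    ∃ j : ℕ, c' = (Q : ZMod M) ^ j * c := by
  obtain ⟨j, hj⟩ := canon_spec (Q := Q) c
  obtain ⟨j', hj'⟩ := canon_spec (Q := Q) c'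
  obtain ⟨i, hi⟩ := inv_pow hQ j'
  refine ⟨i + j, ?_⟩
  rw [pow_add, mul_assoc, ← hj, h, hj', ← mul_assoc, hi, one_mul]

theorem pReg_add {a b : ZMod M} (ha : PReg M p a) (hb : PReg M p b) : PReg M p (a + b) :=
  Nat.Coprime.coprime_dvd_left (AddCommute.addOrderOf_add_dvd_mul_addOrderOf (AddCommute.all a b)) (Nat.Coprime.mul_left ha hb)

theorem pReg_neg {a : ZMod M} (ha : PReg M p a) : PReg M p (-a) := by
  unfold PReg at *
  rwa [addOrderOf_neg]

theorem pReg_zero : PReg M p 0 := by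
  unfold PReg
  rw [addOrderOf_zero]
  exact Nat.coprime_one_left p

theorem pReg_sub {a b : ZMod M} (ha : PReg M p a) (hb : PReg M p b) : PReg M p (a - b) := by
  rw [sub_eq_add_neg]
  exact pReg_add ha (pReg_neg hb)

theorem pReg_mul (R : ZMod M) {a : ZMod M} (ha : PReg M p a) : PReg M p (R * a) := by
  refine Nat.Coprime.coprime_dvd_left ?_ ha
  refine addOrderOf_dvd_of_nsmul_eq_zero ?_
  rw [nsmul_eq_mul, mul_left_comm, ← nsmul_eq_mul, addOrderOf_nsmul_eq_zero, mul_zero]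

theorem eq_zero_of_pReg_pPow {c : ZMod M} (h1 : PReg M p c) (h2 : PPow M p c) : c = 0 := by
  obtain ⟨j, hj⟩ := h2
  unfold PReg at h1
  rw [hj] at h1
  rcases Nat.eq_zero_or_pos j with h0 | h0
  · rw [h0, pow_zero] at hj
    exact AddMonoid.addOrderOf_eq_one_iff.1 hj
  · have h3 := (Nat.coprime_pow_left_iff h0 p p).1 h1
    rw [Nat.coprime_self] at h3
    rw [h3, one_pow] at hj
    exact AddMonoid.addOrderOf_eq_one_iff.1 hj

theorem sfun_eq {t : ZMod M → Fin m → ℕ} (ht : POnly M p t) {δ : ZMod M} (hδ : PReg M p δ) : sfun M p t δ = bsz (t δ) := by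
  classical
  unfold sfun
  rw [Finset.sum_eq_single δ]
  · intro c hc hne
    by_cases hcr : PReg M p c
    · exact absurd (sub_eq_zero.1 (eq_zero_of_pReg_pPow (pReg_sub hcr hδ) (Finset.mem_filter.1 hc).2)) hne
    · exact ht c hcr
  · intro h
    refine absurd (Finset.mem_filter.2 ⟨Finset.mem_univ _, ?_⟩) h
    exact ⟨0, by rw [sub_self, addOrderOf_zero, pow_zero]⟩

theorem sfun_shift (t : ZMod M → Fin m → ℕ) (a δ : ZMod M) : sfun M p (fun c => t (c - a)) δ = sfun M p t (δ - a) := by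
  classical
  unfold sfun
  refine Finset.sum_bij (fun c _ => c - a) ?_ ?_ ?_ ?_
  · intro c hc
    refine Finset.mem_filter.2 ⟨Finset.mem_univ _, ?_⟩
    have := (Finset.mem_filter.1 hc).2
    rwa [sub_sub_sub_cancel_right]
  · intro c _ c' _ h
    exact sub_left_injective h
  · intro c hc
    refine ⟨c + a, Finset.mem_filter.2 ⟨Finset.mem_univ _, ?_⟩, add_sub_cancel_right c a⟩
    have := (Finset.mem_filter.1 hc).2
    rwa [show c + a - δ = c - (δ - a) by ring]
  · intro c _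
    rfl

/-- a strictly increasing tuple of size zero -/
theorem eq_of_bsz_zero {β : Fin m → ℕ} (hβ : StrictMono β) (h : bsz β = 0) : β = fun i : Fin m => (i : ℕ) := by
  have h1 : ∀ i : Fin m, (i : ℕ) ≤ β i := H38.S4536.strict_le hβ
  have h2 : ∑ i, β i ≤ ∑ i : Fin m, (i : ℕ) := Nat.sub_eq_zero_iff_le.1 h
  funext i
  by_contra hne
  have h3 : ∑ i : Fin m, (i : ℕ) < ∑ i, β i :=
    Finset.sum_lt_sum (fun i _ => h1 i) ⟨i, Finset.mem_univ _, lt_of_le_of_ne (h1 i) (fun e => hne e.symm)⟩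
  omega

theorem sum_of_bsz {β : Fin m → ℕ} (hβ : StrictMono β) : ∑ i, β i = bsz β + ∑ i : Fin m, (i : ℕ) := by
  have h1 : ∑ i : Fin m, (i : ℕ) ≤ ∑ i, β i := Finset.sum_le_sum fun i _ => H38.S4536.strict_le hβ i
  unfold bsz
  omega

/-- equal sizes and colours give equal weights -/
theorem ewt_congr {e : ℕ} (he : 0 < e) {β γ : Fin m → ℕ} (hβ : StrictMono β) (hγ : StrictMono γ) (h : bsz β = bsz γ)
    (hc : SameCol e β γ) : ∑ j, β j / e = ∑ j, γ j / e := by
  have h1 := sum_of_bsz hβ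
  have h2 := sum_of_bsz hγ
  have h3 := sum_mod_of_sameCol hc
  have h4 : ∀ δ : Fin m → ℕ, ∑ j, δ j = e * ∑ j, δ j / e + ∑ j, δ j % e := by
    intro δ
    rw [Finset.mul_sum, ← Finset.sum_add_distrib]
    exact Finset.sum_congr rfl fun j _ => (Nat.div_add_mod _ _).symm
  have h5 : e * ∑ j, β j / e = e * ∑ j, γ j / e := by
    rw [h4 β] at h1
    rw [h4 γ] at h2
    omega
  exact Nat.eq_of_mul_eq_mul_left he h5

/-- the possible values at a label -/
def KS (e : ℕ) (β₀ : Fin m → ℕ) : Set (Fin m → ℕ) := {β | StrictMono β ∧ bsz β₀ = bsz β ∧ SameCol e β₀ β}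

theorem KS_congr {e : ℕ} {β γ : Fin m → ℕ} (h : bsz β = bsz γ) (hc : SameCol e β γ) : KS e β = KS e γ := by
  ext x
  constructor
  · rintro ⟨h1, h2, h3⟩
    exact ⟨h1, h.symm.trans h2, hc.symm.trans h3⟩
  · rintro ⟨h1, h2, h3⟩
    exact ⟨h1, h.trans h2, hc.trans h3⟩

theorem KS_bound {e : ℕ} (he : 0 < e) {β₀ : Fin m → ℕ} (h0 : StrictMono β₀) :
    (KS e β₀).Finite ∧ Nat.card (KS e β₀) ≤ H615.AltCount.cc e (ewt e β₀) := by
  have key : ∀ S : Finset (Fin m → ℕ), (S : Set (Fin m → ℕ)) ⊆ KS e β₀ → S.card ≤ H615.AltCount.cc e (ewt e β₀) := by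
    intro S hS
    have h1 := H615.AltCount.card_le he (Finset.range e) (ewt e β₀) β₀ S (fun γ hγ => ?_)
    · rwa [Finset.card_range] at h1
    · obtain ⟨h2, h3, h4⟩ := hS hγ
      refine ⟨h2, fun j => Finset.mem_range.2 (Nat.mod_lt _ he), h4, ?_⟩
      rw [← ewt_congr he h0 h2 h3 h4, ← npairs_of_sameCol h4]
      have := npairs_le he h0.injective
      unfold ewt
      omega
  have hfin : (KS e β₀).Finite := by
    by_contra hinf
    obtain ⟨S, hS, hc⟩ := Set.Infinite.exists_subset_card_eq hinf (H615.AltCount.cc e (ewt e β₀) + 1)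
    have := key S hS
    omega
  refine ⟨hfin, ?_⟩
  rw [Nat.card_coe_set_eq, Set.ncard_eq_toFinset_card _ hfin]
  exact key _ (by simp)

theorem KS_unique {e : ℕ} (he : 0 < e) {β₀ : Fin m → ℕ} (h0 : StrictMono β₀) (hw : ewt e β₀ = 0) {β γ : Fin m → ℕ}
    (hβ : β ∈ KS e β₀) (hγ : γ ∈ KS e β₀) : β = γ := by
  obtain ⟨hfin, hc⟩ := KS_bound he h0
  rw [hw] at hc
  have : Finite (KS e β₀) := hfin
  have h1 : Subsingleton (KS e β₀) := Finite.card_le_one_iff_subsingleton.1 hc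
  exact congrArg Subtype.val (Subsingleton.elim (⟨β, hβ⟩ : KS e β₀) ⟨γ, hγ⟩)

/-! ### The stabiliser -/

/-- the data of the family of `t0` -/
theorem sameFam_iff {t t' : ZMod M → Fin m → ℕ} (ht : POnly M p t) (ht' : POnly M p t') :
    SameFam Q M p t t' ↔ ∀ δ, PReg M p δ → bsz (t δ) = bsz (t' δ) ∧ SameCol (eD Q M p δ) (t δ) (t' δ) := by
  unfold SameFam
  refine forall₂_congr fun δ hδ => ?_
  rw [sfun_eq ht hδ, sfun_eq ht' hδ]

theorem stab_iff {t0 : LabZ Q M m n} (h0 : POnly M p t0.t) {a : ZMod M} : Stab Q M p t0 a ↔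
    (Q : ZMod M) * a = a ∧ PReg M p a ∧
      ∀ δ, PReg M p δ → bsz (t0.t δ) = bsz (t0.t (δ - a)) ∧ SameCol (eD Q M p δ) (t0.t δ) (t0.t (δ - a)) := by
  unfold Stab
  rw [torZ_one]
  refine and_congr_right fun _ => and_congr_right fun ha => ?_
  unfold SameFam
  refine forall₂_congr fun δ hδ => ?_
  rw [sfun_shift, sfun_eq h0 hδ, sfun_eq h0 (pReg_sub hδ ha)]

theorem eD_add {a : ZMod M} (ha : (Q : ZMod M) * a = a) (c : ZMod M) : eD Q M p (c + a) = eD Q M p c := by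
  unfold eD
  rw [perZ_add ha]

theorem eD_sub {a : ZMod M} (ha : (Q : ZMod M) * a = a) (c : ZMod M) : eD Q M p (c - a) = eD Q M p c := by
  rw [sub_eq_add_neg]
  exact eD_add (by rw [mul_neg, ha]) c

theorem eD_mul (hQ : IsUnit (Q : ZMod M)) (i : ℕ) (c : ZMod M) : eD Q M p ((Q : ZMod M) ^ i * c) = eD Q M p c := by
  unfold eD
  rw [perZ_mul hQ]

/-- the stabiliser as a subgroup -/
def stA (t0 : LabZ Q M m n) (h0 : POnly M p t0.t) : AddSubgroup (ZMod M) where
  carrier := {a | Stab Q M p t0 a}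
  zero_mem' := by
    show Stab Q M p t0 0
    rw [stab_iff h0]
    refine ⟨mul_zero _, pReg_zero, fun δ _ => ?_⟩
    rw [sub_zero]
    exact ⟨rfl, SameCol.refl _ _⟩
  add_mem' := by
    intro a b ha hb
    show Stab Q M p t0 (a + b)
    have ha' := (stab_iff h0).1 ha
    have hb' := (stab_iff h0).1 hb
    rw [stab_iff h0]
    refine ⟨by rw [mul_add, ha'.1, hb'.1], pReg_add ha'.2.1 hb'.2.1, fun δ hδ => ?_⟩
    have h1 := ha'.2.2 δ hδ
    have h2 := hb'.2.2 (δ - a) (pReg_sub hδ ha'.2.1)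
    rw [eD_sub ha'.1, sub_sub] at h2
    exact ⟨h1.1.trans h2.1, h1.2.trans h2.2⟩
  neg_mem' := by
    intro a ha
    show Stab Q M p t0 (-a)
    have ha' := (stab_iff h0).1 ha
    rw [stab_iff h0]
    refine ⟨by rw [mul_neg, ha'.1], pReg_neg ha'.2.1, fun δ hδ => ?_⟩
    have h1 := ha'.2.2 (δ + a) (pReg_add hδ ha'.2.1)
    rw [eD_add ha'.1, add_sub_cancel_right] at h1
    rw [sub_neg_eq_add]
    exact ⟨h1.1.symm, h1.2.symm⟩

section Main

variable {t0 : LabZ Q M m n} {h0 : POnly M p t0.t}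

theorem mem_stA {a : ZMod M} : a ∈ stA t0 h0 ↔ Stab Q M p t0 a := Iff.rfl

theorem stA_fix {a : ZMod M} (ha : a ∈ stA t0 h0) : (Q : ZMod M) * a = a := ((stab_iff h0).1 ha).1

theorem stA_pReg {a : ZMod M} (ha : a ∈ stA t0 h0) : PReg M p a := ((stab_iff h0).1 ha).2.1

theorem stA_fam {a : ZMod M} (ha : a ∈ stA t0 h0) {δ : ZMod M} (hδ : PReg M p δ) :
    bsz (t0.t δ) = bsz (t0.t (δ + a)) ∧ SameCol (eD Q M p δ) (t0.t δ) (t0.t (δ + a)) := by
  have h1 := ((stab_iff h0).1 ((stA t0 h0).neg_mem ha)).2.2 δ hδ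
  rwa [sub_neg_eq_add] at h1

/-- the subgroup of all `a ∈ A` with `o + a ∈ ⟨R⟩ o` -/
def fixB (A : AddSubgroup (ZMod M)) (R : ZMod M) (hR : IsUnit R) (hA : ∀ a ∈ A, R * a = a) (o : ZMod M) : AddSubgroup A where
  carrier := {a | ∃ j : ℕ, o + a = R ^ j * o}
  zero_mem' := ⟨0, by simp⟩
  add_mem' := by
    rintro a b ⟨j, hj⟩ ⟨k, hk⟩
    refine ⟨j + k, ?_⟩
    rw [AddSubgroup.coe_add, pow_add, mul_assoc, ← hk, mul_add, ← hj, pow_fix (hA b b.2), add_assoc]
  neg_mem' := by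
    rintro a ⟨j, hj⟩
    obtain ⟨N, hN, h⟩ := exists_pow_eq_one hR
    refine ⟨N * j - j, ?_⟩
    have h1 : R ^ (N * j - j) * R ^ j = 1 := by
      rw [← pow_add, Nat.sub_add_cancel (Nat.le_mul_of_pos_left _ hN), pow_mul, h, one_pow]
    have h2 : R ^ (N * j - j) * (o + a) = o := by rw [hj, ← mul_assoc, h1, one_mul]
    rw [mul_add, pow_fix (hA a a.2)] at h2
    rw [AddSubgroup.coe_neg, ← sub_eq_add_neg, sub_eq_iff_eq_add]
    exact h2.symm

theorem mem_fixB {A : AddSubgroup (ZMod M)} {R : ZMod M} {hR : IsUnit R} {hA : ∀ a ∈ A, R * a = a} {o : ZMod M} {a : A} :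
    a ∈ fixB A R hR hA o ↔ ∃ j : ℕ, o + a = R ^ j * o := Iff.rfl

/-- the order of `Q` modulo `p` -/
noncomputable def oQ (Q : ℤ) (p : ℕ) : ℕ := orderOf (Q : ZMod p)

theorem card_fixB_le (A : AddSubgroup (ZMod M)) (hQ : IsUnit (Q : ZMod M)) (hA : ∀ a ∈ A, (Q : ZMod M) * a = a)
    (e : ℕ) (hA' : ∀ a ∈ A, ((Q : ZMod M) ^ e) * a = a) (o : ZMod M) :
    Nat.card (fixB A (Q : ZMod M) hQ hA o) ≤
      Nat.gcd e (perZ Q M o) * Nat.card (fixB A ((Q : ZMod M) ^ e) (hQ.pow e) hA' o) := by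
  classical
  have hd := perZ_pos hQ o
  set d := perZ Q M o with hdd
  have hg : 0 < Nat.gcd e d := Nat.gcd_pos_of_pos_right _ hd
  choose j hj using fun a : fixB A (Q : ZMod M) hQ hA o => mem_fixB.1 a.2
  refine card_le_of_fibre _ _ (Nat.gcd e d) (fun a => j a % Nat.gcd e d) (fun a => Nat.mod_lt _ hg) ?_
  intro a a' haa
  have haa' : j a ≡ j a' [MOD Nat.gcd e d] := haa
  rw [mem_fixB]
  -- `Q ^ j' (o + (a - a')) = Q ^ j o`
  have h1 : (Q : ZMod M) ^ j a' * (o + ((a : A) - (a' : A) : A)) = (Q : ZMod M) ^ j a * o := by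
    rw [mul_add, pow_fix (hA _ ((a : A) - (a' : A) : A).2), ← hj a, ← hj a', AddSubgroup.coe_sub]
    ring
  obtain ⟨N, hN, h⟩ := exists_pow_eq_one hQ
  set i := j a + (N * Nat.gcd e d * j a' - j a') with hi
  have hle : j a' ≤ N * Nat.gcd e d * j a' := Nat.le_mul_of_pos_left _ (Nat.mul_pos hN hg)
  have h2 : o + ((a : A) - (a' : A) : A) = (Q : ZMod M) ^ i * o := by
    have h3 : (Q : ZMod M) ^ (N * Nat.gcd e d * j a' - j a') * (Q : ZMod M) ^ j a' = 1 := by
      rw [← pow_add, Nat.sub_add_cancel hle, mul_assoc, pow_mul, h, one_pow]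
    calc o + ((a : A) - (a' : A) : A) = ((Q : ZMod M) ^ (N * Nat.gcd e d * j a' - j a') * (Q : ZMod M) ^ j a') *
          (o + ((a : A) - (a' : A) : A)) := by rw [h3, one_mul]
      _ = (Q : ZMod M) ^ (N * Nat.gcd e d * j a' - j a') * ((Q : ZMod M) ^ j a * o) := by rw [mul_assoc, h1]
      _ = (Q : ZMod M) ^ i * o := by rw [hi, pow_add]; ring
  have h4 : Nat.gcd e d ∣ i := by
    have h5 : i + j a' = j a + N * Nat.gcd e d * j a' := by omega
    have h6 : i + j a' ≡ j a' [MOD Nat.gcd e d] := by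
      rw [h5]
      have h7 : N * Nat.gcd e d * j a' ≡ 0 [MOD Nat.gcd e d] :=
        (Nat.modEq_zero_iff_dvd).2 (Dvd.dvd.mul_right (Dvd.intro_left _ rfl) _)
      have h8 := haa'.add h7
      rwa [add_zero] at h8
    have h7 : i ≡ 0 [MOD Nat.gcd e d] := by
      have h8 : i + j a' ≡ 0 + j a' [MOD Nat.gcd e d] := by rwa [zero_add]
      exact Nat.ModEq.add_right_cancel' _ h8
    exact (Nat.modEq_zero_iff_dvd).1 h7
  obtain ⟨i', hi'⟩ := h4
  -- Bezout
  have hdz : (d : ℤ) ≠ 0 := by exact_mod_cast hd.ne'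
  set u : ℤ := (Nat.gcdA e d * i') % d with hu
  have hu0 : 0 ≤ u := Int.emod_nonneg _ hdz
  obtain ⟨x, hx⟩ : ∃ x : ℕ, (x : ℤ) = u := ⟨u.toNat, Int.toNat_of_nonneg hu0⟩
  have h9 : e * x ≡ i [MOD d] := by
    rw [← Int.natCast_modEq_iff]
    push_cast
    have h10 : (x : ℤ) ≡ Nat.gcdA e d * i' [ZMOD d] := by
      rw [hx, hu]
      exact Int.mod_modEq _ _
    have h11 : (i : ℤ) = (e : ℤ) * (Nat.gcdA e d * i') + d * (Nat.gcdB e d * i') := by
      rw [hi']
      push_cast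
      rw [Nat.gcd_eq_gcd_ab]
      ring
    rw [h11]
    have h12 := h10.mul_left (e : ℤ)
    have h13 : (e : ℤ) * (Nat.gcdA e d * i') ≡ (e : ℤ) * (Nat.gcdA e d * i') + d * (Nat.gcdB e d * i') [ZMOD d] := by
      rw [Int.modEq_iff_dvd]
      exact ⟨Nat.gcdB e d * i', by ring⟩
    exact h12.trans h13
  refine ⟨x, ?_⟩
  rw [h2, ← pow_mul, ← pow_mod_perZ o i, ← pow_mod_perZ o (e * x), ← hdd]
  rw [show (e * x) % d = i % d from h9]

end Main

/-! ### The classes -/

section Classes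

variable (t0 : LabZ Q M m n) (h0 : POnly M p t0.t)

/-- two labels are equal up to multiplication by powers of `Q` and translation by elements of `A` -/
def rel (c c' : ZMod M) : Prop := ∃ a ∈ stA t0 h0, ∃ j : ℕ, c' = (Q : ZMod M) ^ j * c + a

variable {t0 h0}

theorem rel_symm (hQ : IsUnit (Q : ZMod M)) {c c' : ZMod M} (h : rel t0 h0 c c') : rel t0 h0 c' c := by
  obtain ⟨a, ha, j, hj⟩ := h
  obtain ⟨i, hi⟩ := inv_pow hQ j
  refine ⟨-a, (stA t0 h0).neg_mem ha, i, ?_⟩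
  rw [hj, mul_add, ← mul_assoc, hi, one_mul, pow_fix (stA_fix ha)]
  ring

theorem rel_trans {c c' c'' : ZMod M} (h : rel t0 h0 c c') (h' : rel t0 h0 c' c'') : rel t0 h0 c c'' := by
  obtain ⟨a, ha, j, hj⟩ := h
  obtain ⟨b, hb, k, hk⟩ := h'
  refine ⟨a + b, (stA t0 h0).add_mem ha hb, k + j, ?_⟩
  rw [hk, hj, mul_add, pow_fix (stA_fix ha), pow_add]
  ring

theorem rel_refl (c : ZMod M) : rel t0 h0 c c := ⟨0, (stA t0 h0).zero_mem, 0, by simp⟩

variable (t0 h0)

/-- the classes -/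
def relS (hQ : IsUnit (Q : ZMod M)) : Setoid (ZMod M) := ⟨rel t0 h0, rel_refl, rel_symm hQ, rel_trans⟩

/-- the representative of a class -/
noncomputable def rep (hQ : IsUnit (Q : ZMod M)) (c : ZMod M) : ZMod M := (Quotient.mk (relS t0 h0 hQ) c).out

theorem rep_rel (hQ : IsUnit (Q : ZMod M)) (c : ZMod M) : rel t0 h0 (rep t0 h0 hQ c) c :=
  Quotient.mk_out (s := relS t0 h0 hQ) c

theorem rep_eq (hQ : IsUnit (Q : ZMod M)) {c c' : ZMod M} (h : rel t0 h0 c c') : rep t0 h0 hQ c = rep t0 h0 hQ c' := by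
  unfold rep
  rw [Quotient.sound (s := relS t0 h0 hQ) h]

/-- the set of the classes of positive weight -/
def Om (hQ : IsUnit (Q : ZMod M)) : Type :=
  {o : ZMod M // rep t0 h0 hQ o = o ∧ PReg M p o ∧ 0 < ewt (eD Q M p o) (t0.t o)}

noncomputable instance (hQ : IsUnit (Q : ZMod M)) : Fintype (Om t0 h0 hQ) := by
  classical
  unfold Om
  infer_instance

variable {t0 h0}

theorem eD_pos (hQp : IsUnit (Q : ZMod p)) (hp : p.Prime) (c : ZMod M) : 0 < eD Q M p c := by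
  have := Fact.mk hp
  exact (hQp.pow _).isOfFinOrder.orderOf_pos

theorem rel_data (hQ : IsUnit (Q : ZMod M)) {o c : ZMod M} (h : rel t0 h0 o c) (ho : PReg M p o) :
    PReg M p c ∧ bsz (t0.t o) = bsz (t0.t c) ∧ SameCol (eD Q M p o) (t0.t o) (t0.t c) ∧ eD Q M p c = eD Q M p o := by
  obtain ⟨a, ha, j, rfl⟩ := h
  have h1 : PReg M p ((Q : ZMod M) ^ j * o) := pReg_mul _ ho
  have h2 := stA_fam ha h1
  rw [orb_pow t0.orb, eD_mul hQ] at h2
  exact ⟨pReg_add h1 (stA_pReg ha), h2.1, h2.2, by rw [eD_add (stA_fix ha), eD_mul hQ]⟩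

theorem ewt_rel (hQ : IsUnit (Q : ZMod M)) (hp : p.Prime) (hQp : IsUnit (Q : ZMod p)) {o c : ZMod M} (h : rel t0 h0 o c)
    (ho : PReg M p o) : ewt (eD Q M p c) (t0.t c) = ewt (eD Q M p o) (t0.t o) := by
  obtain ⟨-, h2, h3, h4⟩ := rel_data hQ h ho
  rw [h4]
  unfold ewt
  rw [ewt_congr (eD_pos hQp hp o) (t0.mono o) (t0.mono c) h2 h3, npairs_of_sameCol h3]

theorem rel_of_mem {a : ZMod M} (ha : a ∈ stA t0 h0) (c : ZMod M) : rel t0 h0 c (c + a) := ⟨a, ha, 0, by simp⟩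

/-- the subgroup `B o` -/
noncomputable abbrev BB (hQ : IsUnit (Q : ZMod M)) (o : ZMod M) : AddSubgroup (stA t0 h0) :=
  fixB (stA t0 h0) (Q : ZMod M) hQ (fun _ ha => stA_fix ha) o

/-- the subgroup `S o` -/
noncomputable abbrev SS (hQ : IsUnit (Q : ZMod M)) (o : ZMod M) : AddSubgroup (stA t0 h0) :=
  fixB (stA t0 h0) ((Q : ZMod M) ^ oQ Q p) (hQ.pow _) (fun _ ha => pow_fix (stA_fix ha) _) o

/-- the number of fixed labels -/
theorem nfix_le (hQ : IsUnit (Q : ZMod M)) (hp : p.Prime) (hQp : IsUnit (Q : ZMod p)) (a : stA t0 h0) :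
    nfix Q M p t0 a ≤ ∏ o : Om t0 h0 hQ, Nat.card (KS (eD Q M p o.1) (t0.t o.1)) ^
      (BB (h0 := h0) hQ o.1 ⊔ AddSubgroup.zmultiples a).index := by
  classical
  have hfin : ∀ o : Om t0 h0 hQ, Finite (KS (eD Q M p o.1) (t0.t o.1)) := fun o => (KS_bound (eD_pos hQp hp _) (t0.mono _)).1
  let H : Om t0 h0 hQ → AddSubgroup (stA t0 h0) := fun o => BB (h0 := h0) hQ o.1 ⊔ AddSubgroup.zmultiples a
  have hcard : Nat.card (∀ o : Om t0 h0 hQ, (stA t0 h0 ⧸ H o) → KS (eD Q M p o.1) (t0.t o.1)) =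
      ∏ o : Om t0 h0 hQ, Nat.card (KS (eD Q M p o.1) (t0.t o.1)) ^ (H o).index := by
    rw [Nat.card_pi]
    refine Finset.prod_congr rfl fun o _ => ?_
    rw [Nat.card_fun]
    rfl
  show _ ≤ ∏ o : Om t0 h0 hQ, Nat.card (KS (eD Q M p o.1) (t0.t o.1)) ^ (H o).index
  rw [← hcard]
  unfold nfix
  have hval : ∀ t : {t : LabZ Q M m n // POnly M p t.t ∧ SameFam Q M p t0.t t.t ∧ ∀ c, t.t (c + a) = t.t c},
      ∀ c, PReg M p c → t.1.t c ∈ KS (eD Q M p c) (t0.t c) := by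
    intro t c hc
    have h1 := (sameFam_iff h0 t.2.1).1 t.2.2.1 c hc
    exact ⟨t.1.mono c, h1.1, h1.2⟩
  have hval' : ∀ t : {t : LabZ Q M m n // POnly M p t.t ∧ SameFam Q M p t0.t t.t ∧ ∀ c, t.t (c + a) = t.t c},
      ∀ (o : Om t0 h0 hQ) (b : stA t0 h0), t.1.t (o.1 + b) ∈ KS (eD Q M p o.1) (t0.t o.1) := by
    intro t o b
    obtain ⟨h1, h2, h3, h4⟩ := rel_data hQ (rel_of_mem b.2 o.1) o.2.2.1
    rw [KS_congr h2 h3, ← h4]
    exact hval t _ h1
  refine Nat.card_le_card_of_injective (fun t o b => ⟨t.1.t (o.1 + (b.out : stA t0 h0)), hval' t o b.out⟩) ?_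
  intro t t' htt
  have hfix : ∀ t : {t : LabZ Q M m n // POnly M p t.t ∧ SameFam Q M p t0.t t.t ∧ ∀ c, t.t (c + a) = t.t c},
      ∀ (z : ℤ) (c : ZMod M), t.1.t (c + ((z • a : stA t0 h0) : ZMod M)) = t.1.t c := by
    intro t z
    induction z using Int.induction_on with
    | zero => intro c; simp
    | succ i ih =>
      intro c
      rw [add_zsmul, one_zsmul, AddSubgroup.coe_add, ← add_assoc, t.2.2.2, ih]
    | pred i ih =>
      intro c
      have h1 := t.2.2.2 (c + (((-(i : ℤ) - 1) • a : stA t0 h0) : ZMod M))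
      rw [← h1, add_assoc, ← AddSubgroup.coe_add, sub_zsmul, one_zsmul, neg_add_cancel_right, ih]
  apply Subtype.ext
  apply LabZ.ext
  funext c
  by_cases hc : PReg M p c
  · by_cases hw : ewt (eD Q M p c) (t0.t c) = 0
    · exact KS_unique (eD_pos hQp hp c) (t0.mono c) hw (hval t c hc) (hval t' c hc)
    · -- the class of `c`
      have hr := rep_rel t0 h0 hQ c
      have hr' := rel_symm hQ hr
      have hreg := (rel_data hQ hr' hc).1
      let o : Om t0 h0 hQ := ⟨rep t0 h0 hQ c, (rep_eq t0 h0 hQ hr), hreg, by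
        rw [ewt_rel hQ hp hQp hr' hc]
        exact Nat.pos_of_ne_zero hw⟩
      obtain ⟨b, hb, j, hj⟩ := hr
      -- the coset of `b`
      let b' : stA t0 h0 := (QuotientAddGroup.mk (s := H o) (⟨b, hb⟩ : stA t0 h0)).out
      have hb' : -b' + ⟨b, hb⟩ ∈ H o := QuotientAddGroup.eq.1 (QuotientAddGroup.out_eq' _)
      obtain ⟨s, hs, z, hz, hsz⟩ := AddSubgroup.mem_sup.1 hb'
      obtain ⟨i, hi⟩ := AddSubgroup.mem_zmultiples_iff.1 hz
      obtain ⟨k, hk⟩ := mem_fixB.1 hs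
      have hbe : b = (b' : ZMod M) + s + ((i • a : stA t0 h0) : ZMod M) := by
        have h1 : (⟨b, hb⟩ : stA t0 h0) = b' + (s + z) := by rw [hsz]; abel
        have h2 := congrArg Subtype.val h1
        rw [hi]
        simpa [add_assoc] using h2
      have key : ∀ t : {t : LabZ Q M m n // POnly M p t.t ∧ SameFam Q M p t0.t t.t ∧ ∀ c, t.t (c + a) = t.t c},
          t.1.t c = t.1.t (o.1 + b') := by
        intro t
        have e1 : c = (Q : ZMod M) ^ j * (o.1 + b) := by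
          rw [mul_add, pow_fix (stA_fix hb)]
          exact hj
        have e2 : o.1 + b = (Q : ZMod M) ^ k * (o.1 + b') + ((i • a : stA t0 h0) : ZMod M) := by
          rw [mul_add, ← hk, pow_fix (stA_fix b'.2), hbe]
          ring
        rw [e1, orb_pow t.1.orb, e2, hfix t, orb_pow t.1.orb]
      rw [key t, key t']
      have h3 := congrFun (congrFun htt o) (QuotientAddGroup.mk (s := H o) (⟨b, hb⟩ : stA t0 h0))
      exact congrArg Subtype.val h3
  · rw [eq_of_bsz_zero (t.1.mono c) (t.2.1 c hc), eq_of_bsz_zero (t'.1.mono c) (t'.2.1 c hc)]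

/-- `|B o| ≤ gcd(e, d) |S o|` -/
theorem card_BB_le (hQ : IsUnit (Q : ZMod M)) (o : ZMod M) : Nat.card (BB (t0 := t0) (h0 := h0) hQ o) ≤
    Nat.gcd (oQ Q p) (perZ Q M o) * Nat.card (SS (t0 := t0) (h0 := h0) hQ o) :=
  card_fixB_le _ hQ _ (oQ Q p) _ o

/-- the elements of all the `S o` are in the strong stabiliser -/
theorem sf_of_mem (hQ : IsUnit (Q : ZMod M)) (hp : p.Prime) (hQp : IsUnit (Q : ZMod p)) {a : stA t0 h0}
    (ha : ∀ o : Om t0 h0 hQ, a ∈ SS (t0 := t0) (h0 := h0) hQ o.1) : SF Q M p t0 a := by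
  refine ⟨a.2, fun δ hδ hw => ?_⟩
  have hr := rep_rel t0 h0 hQ δ
  have hr' := rel_symm hQ hr
  let o : Om t0 h0 hQ := ⟨rep t0 h0 hQ δ, rep_eq t0 h0 hQ hr, (rel_data hQ hr' hδ).1, by
    rw [ewt_rel hQ hp hQp hr' hδ]
    exact hw⟩
  obtain ⟨x, hx⟩ := mem_fixB.1 (ha o)
  obtain ⟨b, hb, j, hj⟩ := hr
  refine ⟨x, ?_⟩
  have hj' : δ = (Q : ZMod M) ^ j * o.1 + b := hj
  have h1 : (Q : ZMod M) ^ j * (o.1 + a) = (Q : ZMod M) ^ j * o.1 + a := by rw [mul_add, pow_fix (stA_fix a.2)]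
  have h2 : ((Q : ZMod M) ^ oQ Q p) ^ x * b = b := pow_fix (pow_fix (stA_fix hb) _) _
  show δ + a = ((Q : ZMod M) ^ oQ Q p) ^ x * δ
  calc δ + a = ((Q : ZMod M) ^ j * o.1 + a) + b := by rw [hj']; ring
    _ = (Q : ZMod M) ^ j * (((Q : ZMod M) ^ oQ Q p) ^ x * o.1) + b := by rw [← h1, hx]
    _ = ((Q : ZMod M) ^ oQ Q p) ^ x * ((Q : ZMod M) ^ j * o.1) + ((Q : ZMod M) ^ oQ Q p) ^ x * b := by rw [h2]; ring
    _ = ((Q : ZMod M) ^ oQ Q p) ^ x * δ := by rw [hj']; ring

/-- the sum of the weights of the classes is at most the total weight -/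
theorem sum_kw_le (hQ : IsUnit (Q : ZMod M)) (hp : p.Prime) (hQp : IsUnit (Q : ZMod p)) :
    ∑ o : Om t0 h0 hQ, (BB (t0 := t0) (h0 := h0) hQ o.1).index * ewt (eD Q M p o.1) (t0.t o.1) ≤ totW Q M p t0.t := by
  classical
  let φ : (Σ o : Om t0 h0 hQ, stA t0 h0 ⧸ BB (t0 := t0) (h0 := h0) hQ o.1) → ZMod M := fun x =>
    canon Q M (x.1.1 + (x.2.out : stA t0 h0))
  have hfB : ∀ o : Om t0 h0 hQ, Fintype (stA t0 h0 ⧸ BB (t0 := t0) (h0 := h0) hQ o.1) := fun o => Fintype.ofFinite _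
  have hφrel : ∀ x, rel t0 h0 x.1.1 (φ x) := by
    intro x
    obtain ⟨j, hj⟩ := canon_spec (Q := Q) (x.1.1 + ((x.2.out : stA t0 h0) : ZMod M))
    refine rel_trans (rel_of_mem (x.2.out : stA t0 h0).2 _) ⟨0, (stA t0 h0).zero_mem, j, ?_⟩
    rw [add_zero]
    exact hj
  have hinj : Function.Injective φ := by
    rintro ⟨o, b⟩ ⟨o', b'⟩ h
    obtain ⟨j, hj⟩ := exists_of_canon_eq hQ h
    have hb := (b.out : stA t0 h0).2
    have hb' := (b'.out : stA t0 h0).2
    have hj1 : o'.1 + ((b'.out : stA t0 h0) : ZMod M) = (Q : ZMod M) ^ j * o.1 + ((b.out : stA t0 h0) : ZMod M) := by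
      have hj' : o'.1 + ((b'.out : stA t0 h0) : ZMod M) = (Q : ZMod M) ^ j * (o.1 + ((b.out : stA t0 h0) : ZMod M)) := hj
      rw [hj', mul_add, pow_fix (stA_fix hb)]
    have hr : rel t0 h0 o.1 o'.1 := by
      refine ⟨((b.out : stA t0 h0) : ZMod M) - ((b'.out : stA t0 h0) : ZMod M), (stA t0 h0).sub_mem hb hb', j, ?_⟩
      linear_combination hj1
    have hoo : o = o' := by
      apply Subtype.ext
      rw [← o.2.1, ← o'.2.1]
      exact rep_eq t0 h0 hQ hr
    subst hoo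
    congr 1
    rw [← QuotientAddGroup.out_eq' b, ← QuotientAddGroup.out_eq' b', QuotientAddGroup.eq, mem_fixB]
    refine ⟨j, ?_⟩
    rw [AddSubgroup.coe_add, AddSubgroup.coe_neg]
    linear_combination hj1
  have h1 : ∑ o : Om t0 h0 hQ, (BB (t0 := t0) (h0 := h0) hQ o.1).index * ewt (eD Q M p o.1) (t0.t o.1) =
      ∑ x : (Σ o : Om t0 h0 hQ, stA t0 h0 ⧸ BB (t0 := t0) (h0 := h0) hQ o.1), ewt (eD Q M p (φ x)) (t0.t (φ x)) := by
    rw [Fintype.sum_sigma]
    refine Finset.sum_congr rfl fun o _ => ?_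
    rw [Finset.sum_congr rfl (g := fun _ => ewt (eD Q M p o.1) (t0.t o.1)) (fun b _ =>
      ewt_rel hQ hp hQp (hφrel ⟨o, b⟩) o.2.2.1), Finset.sum_const, Finset.card_univ, smul_eq_mul,
      ← Nat.card_eq_fintype_card]
    rfl
  rw [h1]
  unfold totW
  rw [← Finset.sum_image (f := fun δ => ewt (eD Q M p δ) (t0.t δ)) (fun x _ y _ h => hinj h)]
  refine Finset.sum_le_sum_of_subset ?_
  intro δ hδ
  obtain ⟨x, -, rfl⟩ := Finset.mem_image.1 hδ
  exact Finset.mem_filter.2 ⟨Finset.mem_univ _, canon_canon hQ _, (rel_data hQ (hφrel x) x.1.2.2.1).1⟩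

open Classical in
/-- **The product form.** -/
theorem sum_nfix_prod (hQ : IsUnit (Q : ZMod M)) (hp : p.Prime) (hQp : IsUnit (Q : ZMod p)) :
    ∑ a ∈ Finset.univ.filter (fun a : ZMod M => Stab Q M p t0 a), nfix Q M p t0 a ≤
      (Finset.univ.filter (fun a : ZMod M => SF Q M p t0 a)).card * ∏ o : Om t0 h0 hQ,
        (Nat.gcd (oQ Q p) (perZ Q M o.1) * ∑ c ∈ Finset.range (BB (t0 := t0) (h0 := h0) hQ o.1).index,
          Nat.card (KS (eD Q M p o.1) (t0.t o.1)) ^ Nat.gcd c (BB (t0 := t0) (h0 := h0) hQ o.1).index) := by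
  have hf : Fintype (stA t0 h0) := Fintype.ofFinite _
  have hcyc : IsAddCyclic (stA t0 h0) := inferInstance
  have h1 : ∑ a ∈ Finset.univ.filter (fun a : ZMod M => Stab Q M p t0 a), nfix Q M p t0 a =
      ∑ a : stA t0 h0, nfix Q M p t0 a := by
    symm
    refine Finset.sum_bij (fun a _ => (a : ZMod M)) (fun a _ => Finset.mem_filter.2 ⟨Finset.mem_univ _, a.2⟩)
      (fun a _ b _ h => Subtype.ext h) (fun a ha => ⟨⟨a, (Finset.mem_filter.1 ha).2⟩, Finset.mem_univ _, rfl⟩)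
      (fun a _ => rfl)
  rw [h1]
  refine (Finset.sum_le_sum fun a _ => nfix_le (h0 := h0) hQ hp hQp a).trans ?_
  refine (prod_bound (fun o : Om t0 h0 hQ => SS (t0 := t0) (h0 := h0) hQ o.1) _ ?_ (fun o : Om t0 h0 hQ =>
    (Nat.gcd (oQ Q p) (perZ Q M o.1) * ∑ c ∈ Finset.range (BB (t0 := t0) (h0 := h0) hQ o.1).index,
          Nat.card (KS (eD Q M p o.1) (t0.t o.1)) ^ Nat.gcd c (BB (t0 := t0) (h0 := h0) hQ o.1).index)) ?_).trans ?_
  · intro o a s hs
    congr 2
    have hs' : s ∈ BB (t0 := t0) (h0 := h0) hQ o.1 := by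
      obtain ⟨j, hj⟩ := mem_fixB.1 hs
      exact mem_fixB.2 ⟨oQ Q p * j, by rw [pow_mul]; exact hj⟩
    apply le_antisymm
    · refine sup_le le_sup_left ?_
      rw [AddSubgroup.zmultiples_le]
      exact AddSubgroup.add_mem _ (AddSubgroup.mem_sup_right (AddSubgroup.mem_zmultiples a)) (AddSubgroup.mem_sup_left hs')
    · refine sup_le le_sup_left ?_
      rw [AddSubgroup.zmultiples_le]
      have h2 : a = (a + s) + -s := by abel
      rw [h2]
      refine AddSubgroup.add_mem _ (AddSubgroup.mem_sup_right ?_) (AddSubgroup.mem_sup_left (AddSubgroup.neg_mem _ hs'))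
      rw [← h2]
      exact AddSubgroup.mem_zmultiples _
  · intro o
    rw [sum_index]
    calc Nat.card (BB (t0 := t0) (h0 := h0) hQ o.1) * _ ≤
          (Nat.gcd (oQ Q p) (perZ Q M o.1) * Nat.card (SS (t0 := t0) (h0 := h0) hQ o.1)) * _ :=
        Nat.mul_le_mul_right _ (card_BB_le hQ o.1)
      _ = _ := by ring
  · refine Nat.mul_le_mul_right _ ?_
    rw [Nat.card_eq_fintype_card, ← Finset.card_univ]
    refine Finset.card_le_card_of_injOn (fun a => ((a : stA t0 h0) : ZMod M)) ?_ (fun a _ b _ h => Subtype.ext (Subtype.ext h))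
    intro a _
    refine Finset.mem_coe.2 (Finset.mem_filter.2 ⟨Finset.mem_univ _, sf_of_mem hQ hp hQp fun o => ?_⟩)
    exact (AddSubgroup.mem_iInf.1 a.2) o

end Classes

end Cfsg.Agent.H610.GLB
end
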